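import Groth.Agent.CurvSt.K361.Gen
import Groth.Agent.Divis.NormSheaf
import Groth.Prelude.Def_Pi1

/-!
# Affine pullbacks of open charts
-/

set_option autoImplicit false
universe u

open CategoryTheory CategoryTheory.Limits AlgebraicGeometry TopologicalSpace

namespace K361.AffPull

/-- The base change of an affine scheme along an affine morphism, as the spectrum of an algebra. -/
theorem exists_isPullback {X Y : Scheme.{u}} (f : X ⟶ Y) [IsAffineHom f] {A : Type u} [CommRing A]
    (v : Spec (CommRingCat.of A) ⟶ Y) :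
    ∃ (M : Type u) (_ : CommRing M) (_ : Algebra A M) (j : Spec (CommRingCat.of M) ⟶ X),
      IsPullback j (Spec.map (CommRingCat.ofHom (algebraMap A M))) f v := by
  have h1 : IsAffine (pullback f v) := isAffine_of_isAffineHom (pullback.snd f v)
  let P := pullback f v
  let M := Γ(P, ⊤)
  let e : P ≅ Spec M := P.isoSpec
  let φ : CommRingCat.of A ⟶ M := Spec.preimage (e.inv ≫ pullback.snd f v)
  have hφ : Spec.map φ = e.inv ≫ pullback.snd f v := Spec.map_preimage _
  refine ⟨M, inferInstance, φ.hom.toAlgebra, e.inv ≫ pullback.fst f v, ?_⟩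
  have h2 : Spec.map (CommRingCat.ofHom (@algebraMap A M _ _ φ.hom.toAlgebra)) = e.inv ≫ pullback.snd f v := hφ
  rw [h2]
  exact IsPullback.of_iso (IsPullback.of_hasPullback f v) e (Iso.refl _) (Iso.refl _) (Iso.refl _)
    (by simp) (by simp) (by simp) (by simp)

theorem isIntegrallyClosed_of_isOpenImmersion {X : Scheme.{u}} [IsIntegral X] (hX : Pi1.IsNormalScheme X)
    {M : Type u} [CommRing M] [IsDomain M] (j : Spec (CommRingCat.of M) ⟶ X) [IsOpenImmersion j] :
    IsIntegrallyClosed M := by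
  have h1 : IsAffineOpen (j ''ᵁ ⊤) := (isAffineOpen_top _).image_of_isOpenImmersion j
  have hne : Nonempty (j ''ᵁ ⊤) := by
    obtain ⟨x⟩ : Nonempty (PrimeSpectrum M) := inferInstance
    exact ⟨⟨j x, ⟨x, trivial, rfl⟩⟩⟩
  have h2 := Groth.Agent.Ega2.Normal.isIntegrallyClosed_of_isAffineOpen hX h1 hne
  exact IsIntegrallyClosed.of_equiv
    ((j.appIso ⊤) ≪≫ (Scheme.ΓSpecIso (CommRingCat.of M))).commRingCatIsoToRingEquiv

theorem spec_ff {X Y : Scheme.{u}} [IsIntegral X] [IsIntegral Y] (f : X ⟶ Y) [Surjective f] :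
    Spec.map (CommRingCat.ofHom (Groth.Agent.Divis.NormSheaf.ff f)) ≫ Y.fromSpecStalk (genericPoint Y) =
      X.fromSpecStalk (genericPoint X) ≫ f := by
  have h1 : CommRingCat.ofHom (Groth.Agent.Divis.NormSheaf.ff f) =
      Y.presheaf.stalkSpecializes (specializes_of_eq (Groth.Agent.Divis.NormSheaf.map_genericPoint f)) ≫
        f.stalkMap (genericPoint X) := rfl
  rw [h1, Spec.map_comp, Category.assoc, Scheme.SpecMap_stalkSpecializes_fromSpecStalk,
    Scheme.SpecMap_stalkMap_fromSpecStalk]

end K361.AffPull
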