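import Mathlib.RingTheory.Ideal.Over
import Mathlib.NumberTheory.RamificationInertia.Basic
import Mathlib.RingTheory.Artinian.Module
import Mathlib.FieldTheory.IsAlgClosed.Basic
import Mathlib.Algebra.Polynomial.Module.Basic
import Mathlib.RingTheory.Polynomial.Quotient

/-!
# Fibres of finite algebras over the affine line
-/

set_option autoImplicit false
universe u

open Polynomial Module

namespace K361.FibAlg

theorem bijective_quot (k : Type u) [Field k] (α : k) : Function.Bijective
    (algebraMap k (k[X] ⧸ Ideal.span {(X - C α : k[X])})) := by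
  have h := (Polynomial.quotientSpanXSubCAlgEquiv α).symm.bijective
  have e : (algebraMap k (k[X] ⧸ Ideal.span {(X - C α : k[X])}) : k → _) =
      ((Polynomial.quotientSpanXSubCAlgEquiv α).symm : k → _) := by
    ext a
    exact ((Polynomial.quotientSpanXSubCAlgEquiv α).symm.commutes a).symm
  exact e ▸ h

theorem isMaximal_span (k : Type u) [Field k] (α : k) : (Ideal.span {(X - C α : k[X])}).IsMaximal :=
  PrincipalIdealRing.isMaximal_of_irreducible (irreducible_X_sub_C α)

set_option linter.deprecated false in
/-- The dimension of the fibres. -/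
theorem finrank_quot {k : Type u} [Field k] {M : Type u} [CommRing M] [IsDomain M] [Algebra k M] [Algebra k[X] M]
    [IsScalarTower k k[X] M] [Module.Finite k[X] M] (K L : Type u) [Field K] [Field L] [Algebra k[X] K]
    [IsFractionRing k[X] K] [Algebra M L] [IsFractionRing M L] [Algebra K L] [Algebra k[X] L]
    [IsScalarTower k[X] K L] [IsScalarTower k[X] M L] (α : k) :
    finrank k (M ⧸ Ideal.span {algebraMap k[X] M (X - C α)}) = finrank K L := by
  have hm := isMaximal_span k α
  have h1 := Ideal.finrank_quotient_map (R := k[X]) (S := M) (Ideal.span {(X - C α : k[X])}) K L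
  rw [← h1]
  have h2 : (Ideal.span {(X - C α : k[X])}).map (algebraMap k[X] M) =
      Ideal.span {algebraMap k[X] M (X - C α)} := by
    rw [Ideal.map_span, Set.image_singleton]
  refine Algebra.finrank_eq_of_equiv_equiv (RingEquiv.ofBijective _ (bijective_quot k α))
    (Ideal.quotEquivOfEq h2.symm) ?_
  ext a
  change Ideal.Quotient.mk _ (algebraMap k[X] M (C a)) = Ideal.quotEquivOfEq h2.symm
    (Ideal.Quotient.mk _ (algebraMap k M a))
  rw [Ideal.quotEquivOfEq_mk, IsScalarTower.algebraMap_apply k k[X] M]
  rfl

/-- The number of points of a reduced finite algebra over an algebraically closed field. -/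
theorem finrank_eq_card (k : Type u) [Field k] [IsAlgClosed k] (A : Type u) [CommRing A] [Algebra k A]
    [Module.Finite k A] [IsReduced A] : finrank k A = Nat.card (PrimeSpectrum A) := by
  have : IsArtinianRing A := IsArtinianRing.of_finite k A
  have := Fintype.ofFinite (MaximalSpectrum A)
  have e := (IsArtinianRing.equivPi A).restrictScalars k
  have h1 : ∀ I : MaximalSpectrum A, finrank k (A ⧸ I.asIdeal) = 1 := by
    intro I
    have := I.isMaximal
    let := Ideal.Quotient.field I.asIdeal
    have hb : Function.Bijective (algebraMap k (A ⧸ I.asIdeal)) :=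
      IsAlgClosed.algebraMap_bijective_of_isIntegral
    exact ((LinearEquiv.ofBijective (Algebra.linearMap k (A ⧸ I.asIdeal)) hb).finrank_eq.symm).trans
      (Module.finrank_self k)
  rw [e.toLinearEquiv.finrank_eq, Module.finrank_pi_fintype]
  simp only [h1, Finset.sum_const, Finset.card_univ, smul_eq_mul, mul_one]
  rw [← Nat.card_eq_fintype_card]
  exact Nat.card_congr IsArtinianRing.primeSpectrumEquivMaximalSpectrum.symm

end K361.FibAlg
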