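import Groth.Agent.Curves.K321.HurwMain
import Groth.Agent.AlgEqCyc.K824.DegZero

/-!
# Counting points in the fibres of a cover of curves over an algebraically closed field

`finsum_ram`: `∑_{x | y} e_x = n`.
`le_of_bound`: `2 (n χ(O_Y) - χ(O_X)) ≤ ∑_y d_y` if `n ≤ #f⁻¹(y) + d_y` for all closed points `y` (tame case).
-/

set_option autoImplicit false
universe u

open CategoryTheory CategoryTheory.Limits AlgebraicGeometry TopologicalSpace Opposite Module

namespace K361.HurwCount

open Groth.Agent Groth.Agent.Divis.NormSheaf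
open K321 K321.HurwLoc K321.HurwBase IsLocalRing

theorem ff_algebraMap {X Y : Scheme.{u}} [IsIntegral X] [IsIntegral Y] (f : X ⟶ Y)
    [Surjective f] (x : X) (a : Y.presheaf.stalk (f x)) :
    ff f (algebraMap (Y.presheaf.stalk (f x)) Y.functionField a) =
      algebraMap (X.presheaf.stalk x) X.functionField (f.stalkMap x a) := by
  have h1 := congr($(Scheme.Hom.stalkSpecializes_stalkMap f (genericPoint X) x (genericPoint_specializes x)).hom a)
  have h2 := TopCat.Presheaf.stalkSpecializes_comp_apply Y.presheaf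
      (specializes_of_eq (Divis.NormSheaf.map_genericPoint f)) (genericPoint_specializes (f x)) a
  refine Eq.trans ?_ h1
  exact congrArg (f.stalkMap (genericPoint X)) h2

theorem exists_ram {R S : Type*} [CommRing R] [IsDomain R] [IsDiscreteValuationRing R] [CommRing S]
    [IsDomain S] [IsDiscreteValuationRing S] [Algebra R S] (hinj : Function.Injective (algebraMap R S))
    [IsLocalHom (algebraMap R S)] {ϖ : R} (hϖ : Irreducible ϖ) {t : S} (ht : Irreducible t) :
    ∃ u : Sˣ, algebraMap R S ϖ = t ^ ((maximalIdeal S).ramificationIdx R) * u := by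
  have h0 : algebraMap R S ϖ ≠ 0 := fun h => hϖ.ne_zero (hinj (h.trans (map_zero _).symm))
  obtain ⟨e, u, hu⟩ := IsDiscreteValuationRing.eq_unit_mul_pow_irreducible h0 ht
  have : (maximalIdeal S).LiesOver (maximalIdeal R) := by
    constructor
    ext x
    rw [Ideal.mem_comap, mem_maximalIdeal, mem_maximalIdeal, mem_nonunits_iff, mem_nonunits_iff, isUnit_map_iff]
  have h2 : (maximalIdeal S).ramificationIdx R = e := by
    refine Lefpen.H534.RamAlg.ramificationIdx_eq (maximalIdeal R) e ?_
    rw [hϖ.maximalIdeal_eq, Ideal.map_span, Set.image_singleton, hu, ht.maximalIdeal_eq, Ideal.span_singleton_pow,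
      mul_comm, Ideal.span_singleton_mul_right_unit u.isUnit]
  exact ⟨u, by rw [h2, hu, mul_comm]⟩

/-- The order of the pullback of a uniformizer. -/
theorem ordFrac_ff {X Y : Scheme.{u}} [IsIntegral X] [IsIntegral Y] (f : X ⟶ Y)
    [Surjective f] (x : X) (hS : IsDiscreteValuationRing (X.presheaf.stalk x))
    (hR : IsDiscreteValuationRing (Y.presheaf.stalk (f x))) {ϖ : Y.presheaf.stalk (f x)} (hϖ : Irreducible ϖ) :
    CycAlg.ordFrac (X.presheaf.stalk x) X.functionField
      (ff f (algebraMap (Y.presheaf.stalk (f x)) Y.functionField ϖ)) = ram f x := by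
  let := (f.stalkMap x).hom.toAlgebra
  have hloc : IsLocalHom (algebraMap (Y.presheaf.stalk (f x)) (X.presheaf.stalk x)) :=
    inferInstanceAs (IsLocalHom (f.stalkMap x).hom)
  have hinj : Function.Injective (algebraMap (Y.presheaf.stalk (f x)) (X.presheaf.stalk x)) := by
    intro a b hab
    apply IsFractionRing.injective (Y.presheaf.stalk (f x)) Y.functionField
    apply (ff f).injective
    rw [ff_algebraMap, ff_algebraMap]
    exact congrArg _ hab
  obtain ⟨t, ht⟩ := IsDiscreteValuationRing.exists_irreducible (X.presheaf.stalk x)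
  obtain ⟨u, hu⟩ := exists_ram hinj hϖ ht
  rw [ff_algebraMap]
  have h1 : f.stalkMap x ϖ = t ^ (ram f x) * (u : X.presheaf.stalk x) := hu
  rw [h1]
  exact DiscLocal.ordFrac_pow_mul ht _ u.isUnit

variable (k : Type u) [Field k] {X Y : Scheme.{u}} [X.Over (Spec (CommRingCat.of k))]
  [Y.Over (Spec (CommRingCat.of k))] [IsIntegral X] [IsIntegral Y] [IsProper (Y ↘ Spec (CommRingCat.of k))]
  [IsProper (X ↘ Spec (CommRingCat.of k))] (f : X ⟶ Y) [IsFinite f] [Surjective f]

omit [IsIntegral X] [IsIntegral Y] [IsProper (Y ↘ Spec (CommRingCat.of k))] [IsFinite f] [Surjective f] in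
include k in
/-- The residue degrees are one. -/
theorem residueDegree_eq_one [IsAlgClosed k]
    (hf : f ≫ (Y ↘ Spec (CommRingCat.of k)) = X ↘ Spec (CommRingCat.of k)) (x : X)
    (hx : IsClosed ({x} : Set X)) : f.residueDegree x = 1 := by
  have h1 : (f ≫ (Y ↘ Spec (CommRingCat.of k))).residueDegree x = 1 := by
    rw [hf]
    exact K824.DegZero.residueDegree_eq_one (X ↘ Spec (CommRingCat.of k)) x hx
  rw [CycB.Push.residueDegree_comp] at h1
  exact Nat.eq_one_of_mul_eq_one_left h1

/-- The sum of the ramification indices of the points of a fibre is the degree. -/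
theorem finsum_ram [IsAlgClosed k] (hdX : topologicalKrullDim X = 1) (hdY : topologicalKrullDim Y = 1)
    (hnX : Pi1.IsNormalScheme X) (hnY : Pi1.IsNormalScheme Y)
    (hf : f ≫ (Y ↘ Spec (CommRingCat.of k)) = X ↘ Spec (CommRingCat.of k)) (y : Y)
    (hy : IsClosed ({y} : Set Y)) :
    letI := alg f
    ∑ᶠ x : {x : X // f x = y}, (ram f x.1 : ℤ) = finrank Y.functionField X.functionField := by
  let := alg f
  obtain ⟨hX1, hX2, -⟩ := LatSum.points k X hdX
  obtain ⟨hY1, hY2, -⟩ := LatSum.points k Y hdY
  have : IsLocallyNoetherian Y := LocallyOfFiniteType.isLocallyNoetherian (Y ↘ Spec (CommRingCat.of k))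
  have : IsLocallyNoetherian X := LocallyOfFiniteType.isLocallyNoetherian (X ↘ Spec (CommRingCat.of k))
  have hy0 : y ≠ genericPoint Y := by
    rintro rfl
    exact hY2 hy
  have hR := NormPid.isDiscreteValuationRing hnY hdY.le hy0
  obtain ⟨ϖ, hϖ⟩ := IsDiscreteValuationRing.exists_irreducible (Y.presheaf.stalk y)
  have hdim : ringKrullDim (Y.presheaf.stalk y) ≤ 1 :=
    (Ring.krullDimLE_iff (n := 1)).1 inferInstance
  have hg : ff f (algebraMap (Y.presheaf.stalk y) Y.functionField ϖ) ≠ 0 := by
    rw [map_ne_zero_iff _ (ff f).injective, map_ne_zero_iff _ (IsFractionRing.injective _ _)]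
    exact hϖ.ne_zero
  have h1 := norm_formula f y hdim _ hg
  have h2 : Algebra.norm Y.functionField (ff f (algebraMap (Y.presheaf.stalk y) Y.functionField ϖ)) =
      algebraMap (Y.presheaf.stalk y) Y.functionField
        (ϖ ^ (finrank Y.functionField X.functionField) * 1) := by
    rw [mul_one, map_pow]
    exact Algebra.norm_algebraMap _
  rw [h2, DiscLocal.ordFrac_pow_mul hϖ _ isUnit_one] at h1
  rw [h1]
  refine finsum_congr fun x => ?_
  obtain ⟨x, rfl⟩ := x
  have hx : IsClosed ({x} : Set X) := (Hurw.isClosed_iff k f hdX hdY x).2 hy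
  have hx0 : x ≠ genericPoint X := by
    rintro rfl
    exact hX2 hx
  have hS := NormPid.isDiscreteValuationRing hnX hdX.le hx0
  dsimp only
  rw [residueDegree_eq_one k f hf x hx, ordFrac_ff f x hS hR hϖ]
  simp

omit [IsIntegral X] [IsIntegral Y] [IsProper (Y ↘ Spec (CommRingCat.of k))] [IsFinite f] [Surjective f] in
/-- In characteristic zero everything is tame. -/
theorem tame_of_charZero [IsAlgClosed k] [CharZero k]
    (hf : f ≫ (Y ↘ Spec (CommRingCat.of k)) = X ↘ Spec (CommRingCat.of k)) (x : X)
    (hx : IsClosed ({x} : Set X)) (hr : 1 ≤ ram f x) : Tame f x := by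
  let φ : k →+* Y.residueField (f x) := ((Y ↘ Spec (CommRingCat.of k)).residueFieldMap (f x)).hom.comp
    (((Spec (CommRingCat.of k)).residue _).hom.comp
      (((Spec (CommRingCat.of k)).presheaf.germ ⊤ _ trivial).hom.comp (Scheme.ΓSpecIso (CommRingCat.of k)).inv.hom))
  have hz : CharZero (Y.residueField (f x)) := charZero_of_injective_ringHom φ.injective
  refine ⟨?_, ?_⟩
  · let := (f.residueFieldMap x).hom.toAlgebra
    have h1 : Module.finrank (Y.residueField (f x)) (X.residueField x) = 1 := residueDegree_eq_one k f hf x hx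
    have : Module.Finite (Y.residueField (f x)) (X.residueField x) :=
      Module.finite_of_finrank_pos (by omega)
    infer_instance
  · exact_mod_cast (by omega : ram f x ≠ 0)

attribute [local instance] Curv2.resAlgebra

open Classical in
/-- **The Hurwitz bound.** If the fibres over the closed points `y` have at least `n - d_y` points, then
`2 (n χ(O_Y) - χ(O_X)) ≤ ∑_y d_y`. -/
theorem le_of_bound [IsAlgClosed k] [CharZero k] (hdX : topologicalKrullDim X = 1)
    (hdY : topologicalKrullDim Y = 1) (hnX : Pi1.IsNormalScheme X) (hnY : Pi1.IsNormalScheme Y)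
    (hf : f ≫ (Y ↘ Spec (CommRingCat.of k)) = X ↘ Spec (CommRingCat.of k)) (s : Finset Y) (d : Y → ℕ)
    (hd : letI := alg f; ∀ y, IsClosed ({y} : Set Y) →
      finrank Y.functionField X.functionField ≤ Nat.card {x : X // f x = y} + (if y ∈ s then d y else 0)) :
    letI := alg f
    2 * ((finrank Y.functionField X.functionField : ℤ) * Curv2.euler k Y (Coh.structureModule Y) -
          Curv2.euler k X (Coh.structureModule X)) ≤ ∑ y ∈ s, (d y : ℤ) := by
  let := alg f
  have hfd := finite_functionField f
  obtain ⟨hX1, hX2, -⟩ := LatSum.points k X hdX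
  obtain ⟨hY1, hY2, -⟩ := LatSum.points k Y hdY
  have : IsLocallyNoetherian Y := LocallyOfFiniteType.isLocallyNoetherian (Y ↘ Spec (CommRingCat.of k))
  have : IsLocallyNoetherian X := LocallyOfFiniteType.isLocallyNoetherian (X ↘ Spec (CommRingCat.of k))
  have hpos : ∀ x, IsClosed ({x} : Set X) → 1 ≤ ram f x := by
    intro x hx
    have h1 : x ≠ genericPoint X := by
      rintro rfl
      exact hX2 hx
    have h2 : f x ≠ genericPoint Y := by
      intro h
      have := (Hurw.isClosed_iff k f hdX hdY x).1 hx
      rw [h] at this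
      exact hY2 this
    exact ram_pos f x (NormPid.isDiscreteValuationRing hnX hdX.le h1) (NormPid.isDiscreteValuationRing hnY hdY.le h2)
  have hchar : CharZero Y.functionField := by
    let φ : k →+* Y.functionField := ((Y.presheaf.germ ⊤ (genericPoint Y) trivial).hom).comp
      ((Y ↘ Spec (CommRingCat.of k)).appTop.hom.comp (Scheme.ΓSpecIso (CommRingCat.of k)).inv.hom)
    exact charZero_of_injective_ringHom φ.injective
  have hsep : Algebra.IsSeparable Y.functionField X.functionField := inferInstance
  have hS := ((HurwMain.main k X Y hdX hdY hnX hnY f hf hsep).2).2 fun x hx =>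
    tame_of_charZero k f hf x hx (hpos x hx)
  rw [← hS]
  -- the sum over a fibre
  have hfib : ∀ y : Y, (f ⁻¹' {y}).Finite := fun y => f.finite_preimage_singleton y
  have hsum : ∀ y : Y, IsClosed ({y} : Set Y) → ∑ᶠ x : {x : X // f x = y}, (((ram f x.1 - 1 : ℕ) : ℤ)) ≤
      (if y ∈ s then (d y : ℤ) else 0) := by
    intro y hy
    have hfin : Finite {x : X // f x = y} := hfib y
    have := Fintype.ofFinite {x : X // f x = y}
    have h1 := finsum_ram k f hdX hdY hnX hnY hf y hy
    have h2 := hd y hy
    rw [finsum_eq_sum_of_fintype] at h1 ⊢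
    have h3 : ∑ x : {x : X // f x = y}, (((ram f x.1 - 1 : ℕ) : ℤ)) + Nat.card {x : X // f x = y} =
        ∑ x : {x : X // f x = y}, (ram f x.1 : ℤ) := by
      rw [Nat.card_eq_fintype_card, Fintype.card, Finset.card_eq_sum_ones, Nat.cast_sum, ← Finset.sum_add_distrib]
      refine Finset.sum_congr rfl fun x _ => ?_
      have := hpos x.1 ((Hurw.isClosed_iff k f hdX hdY x.1).2 (by rw [x.2]; exact hy))
      push_cast [Nat.cast_sub this]
      ring
    have h4 : (finrank Y.functionField X.functionField : ℤ) ≤
        Nat.card {x : X // f x = y} + (if y ∈ s then (d y : ℤ) else 0) := by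
      have : ((finrank Y.functionField X.functionField : ℕ) : ℤ) ≤
        ((Nat.card {x : X // f x = y} + (if y ∈ s then d y else 0) : ℕ) : ℤ) := by exact_mod_cast h2
      refine this.trans (le_of_eq ?_)
      push_cast
      split_ifs <;> simp
    rw [h1] at h3
    linarith
  have hsum' : ∀ y : Y, IsClosed ({y} : Set Y) → ∑ x ∈ (hfib y).toFinset, (((ram f x - 1 : ℕ) : ℤ)) ≤
      (if y ∈ s then (d y : ℤ) else 0) := by
    intro y hy
    rw [← finsum_mem_eq_finite_toFinset_sum _ (hfib y)]
    refine le_trans (le_of_eq ?_) (hsum y hy)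
    exact (finsum_set_coe_eq_finsum_mem (f := fun x => (((ram f x - 1 : ℕ) : ℤ))) (f ⁻¹' {y})).symm
  set F : X → ℤ := fun x => if IsClosed ({x} : Set X) then
        (((ram f x - 1 : ℕ) : ℤ) * (Module.finrank k (X.residueField x) : ℤ)) else 0 with hF
  have hF1 : ∀ x, IsClosed ({x} : Set X) → F x = ((ram f x - 1 : ℕ) : ℤ) := by
    intro x hx
    rw [hF]
    dsimp only
    rw [if_pos hx, finrank_residueField, K824.DegZero.residueDegree_eq_one _ x hx]
    simp
  have hF0 : ∀ x, ¬ IsClosed ({x} : Set X) → F x = 0 := fun x hx => if_neg hx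
  have hsupp : Function.support F ⊆ ((s.biUnion fun y => (hfib y).toFinset : Finset X) : Set X) := by
    intro x hx
    rw [Function.mem_support] at hx
    have hxc : IsClosed ({x} : Set X) := by
      by_contra h
      exact hx (hF0 x h)
    have hyc := (Hurw.isClosed_iff k f hdX hdY x).1 hxc
    have hs : f x ∈ s := by
      by_contra hs
      have h1 := hsum' (f x) hyc
      rw [if_neg hs] at h1
      have h2 : ((ram f x - 1 : ℕ) : ℤ) ≤ ∑ x ∈ (hfib (f x)).toFinset, (((ram f x - 1 : ℕ) : ℤ)) :=
        Finset.single_le_sum (f := fun x => ((ram f x - 1 : ℕ) : ℤ)) (fun i _ => Int.natCast_nonneg _) (by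
          rw [Set.Finite.mem_toFinset]
          exact rfl)
      rw [hF1 x hxc] at hx
      have h3 : (0 : ℤ) ≤ ((ram f x - 1 : ℕ) : ℤ) := Int.natCast_nonneg _
      exact hx (le_antisymm (h2.trans h1) h3)
    rw [Finset.coe_biUnion, Set.mem_iUnion₂]
    refine ⟨f x, hs, ?_⟩
    rw [Set.Finite.coe_toFinset]
    rfl
  change ∑ᶠ x : X, F x ≤ _
  rw [finsum_eq_sum_of_support_subset _ hsupp, Finset.sum_biUnion]
  · refine Finset.sum_le_sum fun y hy => ?_
    by_cases hyc : IsClosed ({y} : Set Y)
    · have h1 := hsum' y hyc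
      rw [if_pos hy] at h1
      refine le_trans (le_of_eq ?_) h1
      refine Finset.sum_congr rfl fun x hx => hF1 x ?_
      rw [Set.Finite.mem_toFinset] at hx
      have hx : f x = y := hx
      rw [Hurw.isClosed_iff k f hdX hdY x, hx]
      exact hyc
    · rw [Finset.sum_eq_zero]
      · exact Int.natCast_nonneg _
      · intro x hx
        rw [Set.Finite.mem_toFinset] at hx
        have hx : f x = y := hx
        apply hF0
        rw [Hurw.isClosed_iff k f hdX hdY x, hx]
        exact hyc
  · intro y _ y' _ hyy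
    rw [Function.onFun, Finset.disjoint_left]
    intro x hx hx'
    rw [Set.Finite.mem_toFinset] at hx hx'
    exact hyy ((show f x = y from hx).symm.trans hx')

end K361.HurwCount
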