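import Groth.Agent.CurvSt.K760.Iface
import Groth.Agent.Curves.K663.FFCover

/-!
# Points of the projective line over a field
-/

set_option autoImplicit false
set_option backward.isDefEq.respectTransparency false
universe u

open CategoryTheory CategoryTheory.Limits AlgebraicGeometry Opposite TopologicalSpace Polynomial
open Groth.Agent.Fdesc.LocGen Groth.Agent Groth.Agent.Picfga
open Groth.Agent.Lefpen.H705.HypIdeal Groth.Agent.Lefpen.H705.ChartPoly Groth.Agent.Lefpen.H705.PointCoord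
open Groth.Agent.Lefpen.H716.CIGeom K663.P1OfHom

namespace K361.P1Pt

open K760.Hurw

variable (k : Type u) [Field k]

instance isOpenImmersion_v0 (R : Type u) [CommRing R] : IsOpenImmersion (v0 R) :=
  Groth.Agent.Sga4B.P1Hyper.isOpenImmersion_v R

theorem v0_toSpec (R : Type u) [CommRing R] : v0 R ≫ CohB1.ProjSpace.toSpec 1 R =
    Spec.map (CommRingCat.ofHom (Polynomial.C : R →+* R[X])) :=
  Groth.Agent.Sga4B.P1Hyper.v_toSpec R

theorem opensRange_v0 : (v0 k).opensRange = LefPen.chart 1 k 0 := by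
  rw [LefPen.chart, ← Groth.Agent.Sga5.ProjSmooth.opensRange_chart]
  unfold v0
  rw [Scheme.Hom.opensRange_comp_of_isIso]

/-- There is at most one point at infinity. -/
theorem eq_of_notMem {y y' : CohB1.ProjSpace 1 k} (h : y ∉ Set.range (v0 k)) (h' : y' ∉ Set.range (v0 k)) :
    y = y' := by
  have hU := isAffineOpen_chart (k := k) (1 : Fin (1 + 1))
  have key : ∀ z : CohB1.ProjSpace 1 k, z ∉ Set.range (v0 k) → ∃ hz : z ∈ LefPen.chart 1 k (1 : Fin (1 + 1)),
      (hU.primeIdealOf ⟨z, hz⟩).asIdeal.comap (ev (k := k) 1) = Ideal.span {(X : k[X])} := by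
    intro z hz
    have h0 : z ∉ LefPen.chart 1 k 0 := by
      rw [← opensRange_v0]
      exact hz
    have h1 : z ∈ LefPen.chart 1 k 1 := by
      have : z ∈ LefPen.chart 1 k 0 ⊔ LefPen.chart 1 k 1 := by
        rw [sup_chart]
        trivial
      exact this.resolve_left h0
    refine ⟨h1, ?_⟩
    have h2 : z ∉ (CohB1.ProjSpace 1 k).basicOpen (cc (k := k) 1) := by
      rw [basicOpen_cc]
      exact fun h => h0 h.2
    have h3 : cc (k := k) 1 ∈ (hU.primeIdealOf ⟨z, h1⟩).asIdeal := by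
      by_contra hc
      apply h2
      have h4 : hU.primeIdealOf ⟨z, h1⟩ ∈ PrimeSpectrum.basicOpen (cc (k := k) 1) := hc
      have h5 := hU.fromSpec_primeIdealOf ⟨z, h1⟩
      have h6 : hU.primeIdealOf ⟨z, h1⟩ ∈ hU.fromSpec ⁻¹ᵁ (CohB1.ProjSpace 1 k).basicOpen (cc (k := k) 1) := by
        rw [hU.fromSpec_preimage_basicOpen]
        exact h4
      have h7 : hU.fromSpec (hU.primeIdealOf ⟨z, h1⟩) ∈ (CohB1.ProjSpace 1 k).basicOpen (cc (k := k) 1) := h6
      rw [h5] at h7
      exact h7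
    have h4 : (Ideal.span {(X : k[X])}).IsMaximal :=
      PrincipalIdealRing.isMaximal_of_irreducible irreducible_X
    refine (h4.eq_of_le ?_ ?_).symm
    · exact Ideal.IsPrime.ne_top (Ideal.comap_isPrime _ _)
    · rw [Ideal.span_le, Set.singleton_subset_iff]
      change ev (k := k) 1 X ∈ (hU.primeIdealOf ⟨z, h1⟩).asIdeal
      have h5 : ev (k := k) 1 X = cc 1 := by simp [ev]
      rw [h5]
      exact h3
  obtain ⟨hz, h1⟩ := key y h
  obtain ⟨hz', h2⟩ := key y' h'
  have h3 : (hU.primeIdealOf ⟨y, hz⟩).asIdeal = (hU.primeIdealOf ⟨y', hz'⟩).asIdeal :=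
    Ideal.comap_injective_of_surjective _ (ev_bijective (k := k) 1).2 (h1.trans h2.symm)
  have h4 : hU.primeIdealOf ⟨y, hz⟩ = hU.primeIdealOf ⟨y', hz'⟩ := PrimeSpectrum.ext h3
  have h5 := hU.fromSpec_primeIdealOf ⟨y, hz⟩
  have h6 := hU.fromSpec_primeIdealOf ⟨y', hz'⟩
  rw [h4] at h5
  exact h5.symm.trans h6

/-- The point with coordinate `α`. -/
noncomputable def pt (α : k) : PrimeSpectrum k[X] :=
  ⟨Ideal.span {X - C α}, (PrincipalIdealRing.isMaximal_of_irreducible (irreducible_X_sub_C α)).isPrime⟩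

theorem exists_pt [IsAlgClosed k] (x : PrimeSpectrum k[X]) (hx : x ≠ ⊥) : ∃ α : k, x = pt k α := by
  have h0 : x.asIdeal ≠ ⊥ := fun h => hx (PrimeSpectrum.ext h)
  obtain ⟨p, hp⟩ := IsPrincipalIdealRing.principal x.asIdeal
  have hp' : x.asIdeal = Ideal.span {p} := hp
  have hp0 : p ≠ 0 := by
    rintro rfl
    exact h0 (by rw [hp', Ideal.span_singleton_eq_bot])
  have hpp : Prime p := by
    rw [← Ideal.span_singleton_prime hp0, ← hp']
    exact x.isPrime
  obtain ⟨α, hα⟩ := IsAlgClosed.exists_root p (by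
    rw [IsAlgClosed.degree_eq_one_of_irreducible k hpp.irreducible]
    exact one_ne_zero)
  refine ⟨α, PrimeSpectrum.ext ?_⟩
  rw [hp']
  change _ = Ideal.span {X - C α}
  rw [Ideal.span_singleton_eq_span_singleton]
  exact ((irreducible_X_sub_C α).associated_of_dvd hpp.irreducible (Polynomial.dvd_iff_isRoot.2 hα)).symm

end K361.P1Pt
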