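import Groth.Agent.CurvSt.K361.AffPull
import Groth.Agent.CurvSt.K361.FibAlg
import Groth.Agent.CurvSt.K361.HurwCount
import Groth.Agent.CurvSt.K361.P1Pt
import Groth.Agent.Curves.K321.HurwEt
import Groth.Agent.CurvesC.FinMap
import Groth.Agent.Models.H59.P1Fibre
import Groth.Agent.Lefpen.H717.ProjIrr
import Groth.Agent.VarietyA.CurveFin
import Groth.Agent.S0023

/-!
# A curve of positive genus has no nearly unramified coordinate
-/

set_option autoImplicit false
universe u

open CategoryTheory CategoryTheory.Limits AlgebraicGeometry TopologicalSpace Polynomial Module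

namespace K361.CurveThm

open Groth.Agent Groth.Agent.Divis.NormSheaf K760.Hurw K361.Gen K361.P1Pt K361.AffPull

instance isProper_P1 (k : Type u) [Field k] : IsProper (CohB1.ProjSpace 1 k ↘ Spec (CommRingCat.of k)) :=
  Groth.Agent.Ega3B.ProjProper.isProper_toSpec 1 k

theorem euler_P1 (k : Type u) [Field k] [IsAlgClosed k] :
    Curv2.euler k (CohB1.ProjSpace 1 k) (Coh.structureModule (CohB1.ProjSpace 1 k)) = 1 := by
  have h0 := VarietyA.CurveFin.finrank_h0_structure k (CohB1.ProjSpace 1 k)
  have h1 := Groth.Agent.S0023.result 1 k 1 Nat.one_pos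
  have h2 := CurvesC.CurveCoh.euler_eq k (CohB1.ProjSpace 1 k) (Models.H59.P1Fibre.topologicalKrullDim_P1 k)
    (Coh.structureModule (CohB1.ProjSpace 1 k))
  rw [h2, h0, Module.finrank_zero_of_subsingleton]
  simp

theorem isNormal_P1 (k : Type u) [Field k] : Pi1.IsNormalScheme (CohB1.ProjSpace 1 k) := by
  have := Models.H59.P1Fibre.smooth_toSpec k
  exact K321.HurwEt.isNormal_of_smooth (CohB1.ProjSpace.toSpec 1 k) (Models.H59.P1Fibre.topologicalKrullDim_P1 k).le

variable (k : Type u) [Field k] [IsAlgClosed k] {X : Scheme.{u}} (q : X ⟶ Spec (CommRingCat.of k))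
  [Smooth q] [IsProper q] [IsIntegral X] {L : Type u} [Field L] [Algebra k L]
  (γ : Spec (CommRingCat.of L) ⟶ X)

theorem v0_genericPoint (k : Type u) [Field k] (x : PrimeSpectrum k[X]) (hx : x.asIdeal = ⊥) :
    (v0 k) x = genericPoint (CohB1.ProjSpace 1 k) := by
  have h1 : genericPoint (Spec (CommRingCat.of k[X])) = x := by
    have h2 := genericPoint_eq_bot_of_affine (CommRingCat.of k[X])
    rw [h2]
    exact PrimeSpectrum.ext hx.symm
  have h3 := genericPoint_eq_of_isOpenImmersion (v0 k)
  rw [h1] at h3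
  exact h3

theorem v0_pt_ne (k : Type u) [Field k] (α : k) : (v0 k) (pt k α) ≠ genericPoint (CohB1.ProjSpace 1 k) := by
  intro h
  rw [← v0_genericPoint k ⊥ rfl] at h
  have h1 := (v0 k).isOpenEmbedding.injective h
  have h2 : Ideal.span {X - C α} = (⊥ : Ideal k[X]) := congrArg PrimeSpectrum.asIdeal h1
  rw [Ideal.span_singleton_eq_bot] at h2
  exact X_sub_C_ne_zero α h2

theorem pt_injective (k : Type u) [Field k] : Function.Injective (pt k) := by
  intro α β h
  have h1 : Ideal.span {X - C α} = (Ideal.span {X - C β} : Ideal k[X]) := congrArg PrimeSpectrum.asIdeal h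
  have h2 : (X - C α : k[X]) ∈ Ideal.span {X - C β} := h1 ▸ Ideal.mem_span_singleton_self _
  rw [Ideal.mem_span_singleton, dvd_iff_isRoot] at h2
  simp only [IsRoot, eval_sub, eval_X, eval_C] at h2
  exact (sub_eq_zero.1 h2).symm

omit [IsAlgClosed k] in
/-- The finite morphism to the projective line given by a nonconstant rational function. -/
theorem exists_hom (hdX : topologicalKrullDim X = 1) (hγ : IsGen γ)
    (hγk : γ ≫ q = Spec.map (CommRingCat.ofHom (algebraMap k L))) (u : L) (hu : Transcendental k u) :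
    ∃ f : X ⟶ CohB1.ProjSpace 1 k, f ≫ CohB1.ProjSpace.toSpec 1 k = q ∧ IsFinite f ∧ Surjective f ∧
      γ ≫ f = Spec.map (CommRingCat.ofHom (Polynomial.aeval u : k[X] →ₐ[k] L).toRingHom) ≫ v0 k := by
  have hPr := isProper_P1 k
  have : IsProper (CohB1.ProjSpace.toSpec 1 k) := hPr
  let ψ : k[X] →+* L := (Polynomial.aeval u : k[X] →ₐ[k] L).toRingHom
  have hψ : Function.Injective ψ := transcendental_iff_injective.1 hu
  obtain ⟨f, hf1, hf2⟩ := hγ.exists_extension q (Picfga.CurvePts.valuationRing_stalk q hdX.le)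
    (CohB1.ProjSpace.toSpec 1 k) (Spec.map (CommRingCat.ofHom ψ) ≫ v0 k) (by
      rw [Category.assoc, v0_toSpec, ← Spec.map_comp, hγk, ← CommRingCat.ofHom_comp]
      congr 2
      ext a
      simp [ψ])
  have hfP : IsProper f := by
    have : IsProper (f ≫ CohB1.ProjSpace.toSpec 1 k) := by rw [hf1]; infer_instance
    exact IsProper.of_comp f (CohB1.ProjSpace.toSpec 1 k)
  have hgen : f (genericPoint X) = genericPoint (CohB1.ProjSpace 1 k) := by
    let x : Spec (CommRingCat.of L) := IsLocalRing.closedPoint L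
    have h1 := hγ.apply x
    rw [← h1, ← Scheme.Hom.comp_apply, hf2, Scheme.Hom.comp_apply]
    apply v0_genericPoint
    have h2 : x.asIdeal = ⊥ := by
      have := Ideal.eq_bot_or_top x.asIdeal
      exact this.resolve_right x.isPrime.ne_top
    change Ideal.comap ψ x.asIdeal = ⊥
    rw [h2]
    exact (RingHom.injective_iff_ker_eq_bot ψ).1 hψ
  have hsurj : Surjective f := by
    refine ⟨fun y => ?_⟩
    have h1 : IsClosed (Set.range f) := f.isClosedMap.isClosed_range
    have h2 : closure ({genericPoint (CohB1.ProjSpace 1 k)} : Set _) ⊆ Set.range f := by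
      rw [h1.closure_subset_iff, Set.singleton_subset_iff]
      exact ⟨_, hgen⟩
    rw [genericPoint_closure] at h2
    exact h2 trivial
  refine ⟨f, hf1, ?_, hsurj, hf2⟩
  obtain ⟨hY1, -, -⟩ := K321.LatSum.points k (CohB1.ProjSpace 1 k) (Models.H59.P1Fibre.topologicalKrullDim_P1 k)
  have hc : ∀ α, IsClosed ({(v0 k) (pt k α)} : Set (CohB1.ProjSpace 1 k)) := fun α => hY1 _ (v0_pt_ne k α)
  have : IsLocallyNoetherian X := LocallyOfFiniteType.isLocallyNoetherian q
  have : CompactSpace X := QuasiCompact.compactSpace_of_compactSpace q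
  have : IsNoetherian X := {}
  let V : Bool → (CohB1.ProjSpace 1 k).Opens := fun b => ⟨({(v0 k) (pt k (if b then 1 else 0))} : Set _)ᶜ,
    (hc _).isOpen_compl⟩
  refine CurvesC.FinMap.isFinite_of_cover f hdX.le V ?_ ?_
  · rw [eq_top_iff]
    intro y _
    rw [Opens.mem_iSup]
    by_contra hcon
    push Not at hcon
    have h1 : y = (v0 k) (pt k 1) := by
      have := hcon true
      simpa [V, Opens.mem_mk] using this
    have h2 : y = (v0 k) (pt k 0) := by
      have := hcon false
      simpa [V, Opens.mem_mk] using this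
    have h3 := pt_injective k ((v0 k).isOpenEmbedding.injective (h1.symm.trans h2))
    exact one_ne_zero h3
  · intro b hb
    obtain ⟨x, hx⟩ := hsurj.surj ((v0 k) (pt k (if b then 1 else 0)))
    have h1 : x ∈ f ⁻¹ᵁ V b := hb ▸ trivial
    exact h1 hx

omit [IsIntegral X] in
/-- The number of points of a fibre, bounded below in terms of the algebra over the chart. -/
theorem card_fibre_ge {f : X ⟶ CohB1.ProjSpace 1 k} [IsFinite f]
    {M : Type u} [CommRing M] [Algebra k M] [Algebra k[X] M] [IsScalarTower k k[X] M]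
    (j : Spec (CommRingCat.of M) ⟶ X) [IsOpenImmersion j]
    (hj : j ≫ f = Spec.map (CommRingCat.ofHom (algebraMap k[X] M)) ≫ v0 k) (α : k)
    (hfin : Module.Finite k (M ⧸ Ideal.span {algebraMap k[X] M (Polynomial.X - C α)})) :
    finrank k (M ⧸ (Ideal.span {algebraMap k[X] M (Polynomial.X - C α)}).radical) ≤
      Nat.card {x : X // f x = (v0 k) (pt k α)} := by
  set I := Ideal.span {algebraMap k[X] M (Polynomial.X - C α)} with hI
  have h1 : Module.Finite k (M ⧸ I.radical) :=
    Module.Finite.of_surjective (Ideal.Quotient.factorₐ k (Ideal.le_radical : I ≤ I.radical)).toLinearMap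
      (Ideal.Quotient.factor_surjective Ideal.le_radical)
  have h2 : _root_.IsReduced (M ⧸ I.radical) := by
    rw [← Ideal.isRadical_iff_quotient_reduced]
    exact Ideal.radical_isRadical I
  rw [FibAlg.finrank_eq_card k (M ⧸ I.radical)]
  have hfinite : Finite {x : X // f x = (v0 k) (pt k α)} := f.finite_preimage_singleton _
  let g : PrimeSpectrum (M ⧸ I.radical) → PrimeSpectrum M := PrimeSpectrum.comap (Ideal.Quotient.mk I.radical)
  have hg : ∀ P, f (j (g P)) = (v0 k) (pt k α) := by
    intro P
    have h3 : f (j (g P)) = (v0 k) (PrimeSpectrum.comap (algebraMap k[X] M) (g P)) := by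
      rw [← Scheme.Hom.comp_apply, hj]
      rfl
    rw [h3]
    congr 1
    apply PrimeSpectrum.ext
    have h4 : (pt k α).asIdeal.IsMaximal :=
      PrincipalIdealRing.isMaximal_of_irreducible (irreducible_X_sub_C α)
    refine (h4.eq_of_le (PrimeSpectrum.isPrime _).ne_top ?_).symm
    change Ideal.span {Polynomial.X - C α} ≤ _
    rw [Ideal.span_le, Set.singleton_subset_iff]
    change Ideal.Quotient.mk I.radical (algebraMap k[X] M (Polynomial.X - C α)) ∈ P.asIdeal
    have h5 : Ideal.Quotient.mk I.radical (algebraMap k[X] M (Polynomial.X - C α)) = 0 := by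
      rw [Ideal.Quotient.eq_zero_iff_mem]
      exact Ideal.le_radical (Ideal.mem_span_singleton_self _)
    rw [h5]
    exact zero_mem _
  refine Nat.card_le_card_of_injective (fun P => ⟨j (g P), hg P⟩) ?_
  intro P Q hPQ
  have h3 := j.isOpenEmbedding.injective (congrArg Subtype.val hPQ)
  exact PrimeSpectrum.comap_injective_of_surjective _ Ideal.Quotient.mk_surjective h3

open Classical in
theorem main [CharZero k] (hdX : topologicalKrullDim X = 1) (hg : 1 ≤ @Curv2.genus k _ X ⟨q⟩) (hγ : IsGen γ)
    (hγk : γ ≫ q = Spec.map (CommRingCat.ofHom (algebraMap k L))) (u : L) (hu : Transcendental k u) (α₀ α₁ : k)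
    (H : ∀ (M : Type u) [CommRing M] [IsDomain M] [IsIntegrallyClosed M] [Algebra k M] [Algebra k[X] M]
        [IsScalarTower k k[X] M] [Algebra M L] [IsFractionRing M L]
        [IsScalarTower k M L], Module.Finite k[X] M →
        algebraMap M L (algebraMap k[X] M Polynomial.X) = u →
        ∀ α : k, α ≠ α₀ →
          Module.finrank k (M ⧸ Ideal.span {algebraMap k[X] M (Polynomial.X - Polynomial.C α)}) ≤
            Module.finrank k (M ⧸ (Ideal.span {algebraMap k[X] M (Polynomial.X - Polynomial.C α)}).radical) +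
              (if α = α₁ then 1 else 0)) : False := by
  let _ : X.Over (Spec (CommRingCat.of k)) := ⟨q⟩
  have hqP : IsProper (X ↘ Spec (CommRingCat.of k)) := ‹IsProper q›
  have hPr := isProper_P1 k
  obtain ⟨f, hf, hfin, hsurj, hfγ⟩ := exists_hom k q γ hdX hγ hγk u hu
  let ψ : k[X] →+* L := (Polynomial.aeval u : k[X] →ₐ[k] L).toRingHom
  have hnX : Pi1.IsNormalScheme X := K321.HurwEt.isNormal_of_smooth q hdX.le
  -- the chart
  obtain ⟨M, iM, iA, j, hP⟩ := exists_isPullback f (v0 k)
  have hjo : IsOpenImmersion j := MorphismProperty.of_isPullback (P := @IsOpenImmersion) hP.flip inferInstance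
  let l : Spec (CommRingCat.of L) ⟶ Spec (CommRingCat.of M) := hP.lift γ (Spec.map (CommRingCat.ofHom ψ)) hfγ
  have hl1 : l ≫ j = γ := hP.lift_fst _ _ _
  have hl2 : l ≫ Spec.map (CommRingCat.ofHom (algebraMap k[X] M)) = Spec.map (CommRingCat.ofHom ψ) :=
    hP.lift_snd _ _ _
  let μ : M →+* L := (Spec.preimage l).hom
  have hμ : Spec.map (CommRingCat.ofHom μ) = l := Spec.map_preimage _
  let _ : Algebra M L := μ.toAlgebra
  have hμψ : μ.comp (algebraMap k[X] M) = ψ := by
    have h1 : CommRingCat.ofHom (μ.comp (algebraMap k[X] M)) = CommRingCat.ofHom ψ := by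
      apply Spec.map_injective
      rw [CommRingCat.ofHom_comp, Spec.map_comp, hμ, hl2]
    exact congrArg CommRingCat.Hom.hom h1
  have hML : IsFractionRing M L := hγ.isFractionRing j (by
    change Spec.map (CommRingCat.ofHom μ) ≫ j = γ
    rw [hμ, hl1])
  have hMd : IsDomain M := (IsFractionRing.injective M L).isDomain
  have hMi : IsIntegrallyClosed M := isIntegrallyClosed_of_isOpenImmersion hnX j
  let _ : Algebra k M := ((algebraMap k[X] M).comp C).toAlgebra
  have t1 : IsScalarTower k k[X] M := IsScalarTower.of_algebraMap_eq' rfl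
  have t2 : IsScalarTower k M L := by
    refine IsScalarTower.of_algebraMap_eq fun a => ?_
    have h1 := congr($(hμψ) (C a))
    change _ = μ (algebraMap k[X] M (C a))
    rw [RingHom.comp_apply] at h1
    rw [h1]
    simp [ψ]
  have hMf : Module.Finite k[X] M := by
    have h1 : IsFinite (Spec.map (CommRingCat.ofHom (algebraMap k[X] M))) :=
      MorphismProperty.of_isPullback (P := @IsFinite) hP inferInstance
    rw [IsFinite.SpecMap_iff] at h1
    exact RingHom.finite_algebraMap.1 h1
  have hMu : algebraMap M L (algebraMap k[X] M Polynomial.X) = u := by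
    have h1 := congr($(hμψ) Polynomial.X)
    rw [RingHom.comp_apply] at h1
    change μ (algebraMap k[X] M Polynomial.X) = u
    rw [h1]
    simp [ψ]
  have H1 := H M hMf hMu
  -- the degree
  let _ := alg f
  have hfd := finite_functionField f
  set n := finrank (CohB1.ProjSpace 1 k).functionField X.functionField with hn
  have hnpos : 0 < n := Module.finrank_pos
  have hrank : ∀ α : k, finrank k (M ⧸ Ideal.span {algebraMap k[X] M (Polynomial.X - C α)}) = n := by
    intro α
    obtain ⟨μP, hP1, hP2, hP3⟩ := (isGen_fromSpecStalk (X := CohB1.ProjSpace 1 k)).exists_map (v0 k)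
    obtain ⟨μX, hX1, hX2, hX3⟩ := (isGen_fromSpecStalk (X := X)).exists_map j
    let _ : Algebra k[X] (CohB1.ProjSpace 1 k).functionField := μP.toAlgebra
    let _ : Algebra M X.functionField := μX.toAlgebra
    let _ : Algebra k[X] X.functionField := ((ff f).comp μP).toAlgebra
    have i1 : IsFractionRing k[X] (CohB1.ProjSpace 1 k).functionField := isFractionRing_of_div hP2 hP3
    have i2 : IsFractionRing M X.functionField := isFractionRing_of_div hX2 hX3
    have t3 : IsScalarTower k[X] (CohB1.ProjSpace 1 k).functionField X.functionField :=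
      IsScalarTower.of_algebraMap_eq' rfl
    have t4 : IsScalarTower k[X] M X.functionField := by
      refine IsScalarTower.of_algebraMap_eq' ?_
      change (ff f).comp μP = μX.comp (algebraMap k[X] M)
      have h1 : CommRingCat.ofHom ((ff f).comp μP) = CommRingCat.ofHom (μX.comp (algebraMap k[X] M)) := by
        apply Spec.map_injective
        rw [← cancel_mono (v0 k)]
        have h2 : Spec.map (CommRingCat.ofHom ((ff f).comp μP)) ≫ v0 k =
            Spec.map (CommRingCat.ofHom (ff f)) ≫ Spec.map (CommRingCat.ofHom μP) ≫ v0 k := by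
          rw [← Category.assoc, ← Spec.map_comp]
          rfl
        have h3 : Spec.map (CommRingCat.ofHom (μX.comp (algebraMap k[X] M))) ≫ v0 k =
            Spec.map (CommRingCat.ofHom μX) ≫ Spec.map (CommRingCat.ofHom (algebraMap k[X] M)) ≫ v0 k := by
          rw [← Category.assoc, ← Spec.map_comp]
          rfl
        rw [h2, h3, hP1, ← hP.w, ← Category.assoc, hX1]
        exact spec_ff f
      exact congrArg CommRingCat.Hom.hom h1
    exact FibAlg.finrank_quot (CohB1.ProjSpace 1 k).functionField X.functionField α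
  -- the bad points
  have hdP := Models.H59.P1Fibre.topologicalKrullDim_P1 k
  obtain ⟨-, hY2, -⟩ := K321.LatSum.points k (CohB1.ProjSpace 1 k) hdP
  obtain ⟨yi, hyi⟩ : ∃ yi : CohB1.ProjSpace 1 k, ∀ y, y ∉ Set.range (v0 k) → y = yi := by
    by_cases h : ∃ y, y ∉ Set.range (v0 k)
    · obtain ⟨y, hy⟩ := h
      exact ⟨y, fun y' hy' => eq_of_notMem k hy' hy⟩
    · exact ⟨(v0 k) (pt k α₀), fun y hy => absurd ⟨y, hy⟩ h⟩
  let y0 : CohB1.ProjSpace 1 k := (v0 k) (pt k α₀)
  let y1 : CohB1.ProjSpace 1 k := (v0 k) (pt k α₁)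
  let d : CohB1.ProjSpace 1 k → ℕ := fun y => (if y = yi then n - 1 else 0) + (if y = y0 then n - 1 else 0) +
    (if y = y1 then 1 else 0)
  let s : Finset (CohB1.ProjSpace 1 k) := {yi, y0, y1}
  have hsi : yi ∈ s := by simp [s]
  have hs0 : y0 ∈ s := by simp [s]
  have hs1 : y1 ∈ s := by simp [s]
  have hbound := HurwCount.le_of_bound k f hdX hdP hnX (isNormal_P1 k) hf s d (by
    intro y hy
    have hfib : Finite {x : X // f x = y} := f.finite_preimage_singleton y
    have hnon : Nonempty {x : X // f x = y} := by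
      obtain ⟨x, hx⟩ := hsurj.surj y
      exact ⟨⟨x, hx⟩⟩
    have hc1 : 0 < Nat.card {x : X // f x = y} := Nat.card_pos
    change n ≤ _
    by_cases h1 : y = yi
    · rw [if_pos (by rw [h1]; exact hsi)]
      have : n - 1 ≤ d y := by
        change n - 1 ≤ (if y = yi then n - 1 else 0) + (if y = y0 then n - 1 else 0) + (if y = y1 then 1 else 0)
        rw [if_pos h1]
        omega
      omega
    by_cases h2 : y = y0
    · rw [if_pos (by rw [h2]; exact hs0)]
      have : n - 1 ≤ d y := by
        change n - 1 ≤ (if y = yi then n - 1 else 0) + (if y = y0 then n - 1 else 0) + (if y = y1 then 1 else 0)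
        rw [if_pos h2]
        omega
      omega
    have h3 : y ∈ Set.range (v0 k) := by
      by_contra h
      exact h1 (hyi y h)
    obtain ⟨x, rfl⟩ := h3
    have h4 : x ≠ (⊥ : PrimeSpectrum k[X]) := by
      rintro rfl
      rw [v0_genericPoint k ⊥ rfl] at hy
      exact hY2 hy
    obtain ⟨α, rfl⟩ := exists_pt k x h4
    have h5 : α ≠ α₀ := by
      rintro rfl
      exact h2 rfl
    have h6 := H1 α h5
    have hMk : Module.Finite k (M ⧸ Ideal.span {algebraMap k[X] M (Polynomial.X - C α)}) :=
      Module.finite_of_finrank_pos (by rw [hrank]; exact hnpos)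
    have h7 := card_fibre_ge k (f := f) j hP.w α hMk
    rw [hrank] at h6
    by_cases h8 : α = α₁
    · rw [if_pos h8] at h6
      subst h8
      rw [if_pos hs1]
      have : 1 ≤ d y1 := by
        change 1 ≤ (if y1 = yi then n - 1 else 0) + (if y1 = y0 then n - 1 else 0) + (if y1 = y1 then 1 else 0)
        rw [if_pos (rfl : y1 = y1)]
        omega
      have h9 : (v0 k) (pt k α) = y1 := rfl
      rw [h9] at h7 ⊢
      omega
    · rw [if_neg h8] at h6
      omega)
  have hsum : ∑ y ∈ s, (d y : ℤ) = (n - 1 : ℕ) + (n - 1 : ℕ) + 1 := by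
    have h1 : ∀ y, (d y : ℤ) = (if y = yi then ((n - 1 : ℕ) : ℤ) else 0) + (if y = y0 then ((n - 1 : ℕ) : ℤ) else 0) +
        (if y = y1 then 1 else 0) := by
      intro y
      simp only [d, Nat.cast_add, Nat.cast_ite, Nat.cast_zero, Nat.cast_one]
    simp only [h1, Finset.sum_add_distrib, Finset.sum_ite_eq', hsi, hs0, hs1, if_true]
  have hχ : Curv2.euler k X (Coh.structureModule X) ≤ 0 := by
    have h2 := CurvesC.CurveCoh.euler_eq k X hdX (Coh.structureModule X)
    rw [VarietyA.CurveFin.finrank_h0_structure k X] at h2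
    have h3 : 1 ≤ Module.finrank k (Coh.HH X (Coh.structureModule X) 1) := hg
    rw [h2]
    push_cast
    omega
  rw [hsum, euler_P1 k] at hbound
  have h10 : (finrank (CohB1.ProjSpace 1 k).functionField X.functionField : ℤ) = n := rfl
  rw [h10] at hbound
  have h11 : ((n - 1 : ℕ) : ℤ) = (n : ℤ) - 1 := by omega
  rw [h11] at hbound
  linarith

end K361.CurveThm
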