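import Groth.Agent.CurvSt.K361.BadGeom
import Groth.Agent.CurvSt.K361.CurveThm
import Groth.Agent.EssDim.K995.CurveBasic

/-!
# Job 204 (HURW-BAD): no smooth model, from the algebraic core

* `K361.Hurw.main : K760.Hurw.BadAlgStmt → K760.Hurw.BadStmt`.
-/

set_option autoImplicit false
universe u

open CategoryTheory CategoryTheory.Limits AlgebraicGeometry TopologicalSpace IsLocalRing Polynomial

namespace K361.Hurw

open K361.Gen K361.AffPull K361.P1Pt K760.Hurw

theorem main (h : K760.Hurw.BadAlgStmt.{u}) : K760.Hurw.BadStmt.{u} := by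
  intro k _ _ _ R _ _ _ _ ρ Y p _ _ g hp hg K _ _ _ Z a z hZ Φ _ hΦ r b hsimp hb0 hbm
  have hRN : IsNoetherianRing R := inferInstance
  have hirr : GeometricallyIrreducible p := hp.2.2.1
  have hgi : GeometricallyIntegral p := Groth.Agent.Flat2B.SmoothGeom.geometricallyIntegral_of_smooth p
  have hYN : IsLocallyNoetherian Y := LocallyOfFiniteType.isLocallyNoetherian p
  have hYi : IsIntegral Y := GeometricallyIntegral.isIntegral_of_isLocallyNoetherian p
  -- the closed fibre
  let Y₀ := pullback p (Spec.map (CommRingCat.ofHom ρ.toRingHom))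
  let i : Y₀ ⟶ Y := pullback.fst _ _
  let q : Y₀ ⟶ Spec (CommRingCat.of k) := pullback.snd _ _
  have hY₀ : IsPullback i q p (Spec.map (CommRingCat.ofHom ρ.toRingHom)) := IsPullback.of_hasPullback _ _
  have hqs : Smooth q := MorphismProperty.of_isPullback (P := @Smooth) hY₀ inferInstance
  have hqp : IsProper q := MorphismProperty.of_isPullback (P := @IsProper) hY₀ inferInstance
  have hqi : GeometricallyIntegral q := MorphismProperty.of_isPullback (P := @GeometricallyIntegral) hY₀ hgi
  have hY₀i : IsIntegral Y₀ := GeometricallyIntegral.isIntegral_of_subsingleton q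
  obtain ⟨hdim, hgenus⟩ := hp.2.2.2 k _ Y₀ i q hY₀
  -- the generic fibre
  have hgz : ModFun.IsCurveOfGenus g z := K995.GenusField.isCurveOfGenus_of_isPullback hZ hp
  have hZi : IsIntegral Z := K995.CurveBasic.isIntegral hgz
  have hZd : topologicalKrullDim Z = 1 := K995.CurveBasic.dim_eq_one hgz
  have hgen := Groth.Agent.Models.DVRGeneric.isOpenImmersion_generic R K
  have hao : IsOpenImmersion a := MorphismProperty.of_isPullback (P := @IsOpenImmersion) hZ.flip hgen
  -- the chart
  obtain ⟨B, iB, iAB, jB, hB⟩ := exists_isPullback Φ (v0 K)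
  have hjBo : IsOpenImmersion jB := MorphismProperty.of_isPullback (P := @IsOpenImmersion) hB.flip inferInstance
  have hBs := hsimp B jB hB
  have hBn : Nontrivial B := by
    let _ : Z.Over (Spec (CommRingCat.of K)) := ⟨z⟩
    have h1 := K663.FFCover.generic_mem Φ hΦ hZd 0
    have h2 : Φ (genericPoint Z) ∈ Set.range (v0 K) := by
      have h3 : Φ (genericPoint Z) ∈ LefPen.chart 1 K 0 := h1
      rw [← opensRange_v0] at h3
      exact h3
    obtain ⟨x, hx⟩ := h2
    obtain ⟨y, -, -⟩ := Scheme.Pullback.exists_preimage_pullback (f := Φ) (g := v0 K) (genericPoint Z) x hx.symm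
    let y' : PrimeSpectrum B := hB.isoPullback.inv y
    exact PrimeSpectrum.nonempty_iff_nontrivial.1 ⟨y'⟩
  let E : Type u := Y.functionField
  let _ : Field E := inferInstanceAs (Field Y.functionField)
  let γ : Spec (CommRingCat.of E) ⟶ Y := Y.fromSpecStalk (genericPoint Y)
  have hγ : IsGen γ := isGen_fromSpecStalk
  obtain ⟨μ, hμ, hμi, hμd⟩ := hγ.exists_map (jB ≫ a)
  let _ : Algebra B E := μ.toAlgebra
  have hBE : IsFractionRing B E := isFractionRing_of_div hμi hμd
  have hBd : IsDomain B := hμi.isDomain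
  let ι : R →+* E := μ.comp ((algebraMap K[X] B).comp (Polynomial.C.comp (algebraMap R K)))
  have hι : γ ≫ p = Spec.map (CommRingCat.ofHom ι) := by
    have h1 : Spec.map (CommRingCat.ofHom ι) = Spec.map (CommRingCat.ofHom μ) ≫
        Spec.map (CommRingCat.ofHom (algebraMap K[X] B)) ≫ Spec.map (CommRingCat.ofHom (Polynomial.C : K →+* K[X])) ≫
          Spec.map (CommRingCat.ofHom (algebraMap R K)) := by
      rw [← Spec.map_comp, ← Spec.map_comp, ← Spec.map_comp]
      rfl
    rw [h1, ← v0_toSpec, ← hμ, Category.assoc, Category.assoc, hZ.w, Category.assoc, ← hΦ, Category.assoc,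
      reassoc_of% hB.w]
  have hι' : Function.Injective ι := by
    have h1 : Function.Injective (μ.comp ((algebraMap K[X] B).comp (Polynomial.C : K →+* K[X]))) :=
      RingHom.injective _
    exact h1.comp (IsFractionRing.injective R K)
  obtain ⟨O, _, _, _, _, _, _, _, _, hmO, hcompat, γ₀, hγ₀, hγ₀k⟩ :=
    BadGeom.exists_localRing ρ p i q hY₀ γ hγ ι hι hι'
  obtain ⟨u, α₀, α₁, hu, H⟩ := h k R ρ K B r b hBs hb0 hbm O hmO E hcompat
    (BadGeom.exists_transcendental q hdim γ₀ hγ₀ hγ₀k)
  refine CurveThm.main k q γ₀ hdim ?_ hγ₀ hγ₀k u hu α₀ α₁ H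
  have : @Curv2.genus k _ Y₀ ⟨q⟩ = g := hgenus
  omega

end K361.Hurw
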