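import Groth.Agent.CurvSt.K361.AffPull
import Groth.Agent.Picfga.CurvePts
import Groth.Agent.Models.DVRGeneric
import Groth.Agent.Flat2B.SmoothGeom
import Mathlib.AlgebraicGeometry.Geometrically.Integral
import Mathlib.RingTheory.DiscreteValuationRing.TFAE
import Mathlib.RingTheory.LocalRing.ResidueField.Ideal

/-!
# The local ring at the generic point of the closed fibre
-/

set_option autoImplicit false
universe u

open CategoryTheory CategoryTheory.Limits AlgebraicGeometry TopologicalSpace IsLocalRing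

namespace K361.BadGeom

open K361.Gen K361.AffPull Groth.Agent.Picfga

theorem spec_kToK {k : Type u} [Field k] {X : Scheme.{u}} [IsIntegral X] (q : X ⟶ Spec (CommRingCat.of k)) :
    Spec.map (CommRingCat.ofHom (CurvePts.kToK q)) = X.fromSpecStalk (genericPoint X) ≫ q := by
  apply ext_of_isAffine
  rw [Scheme.Hom.comp_appTop, Scheme.fromSpecStalk_appTop, ← cancel_epi (Scheme.ΓSpecIso (CommRingCat.of k)).inv]
  have h1 : CommRingCat.ofHom (CurvePts.kToK q) = RegLocus.coeffHom q ⊤ ≫ X.presheaf.germ ⊤ (genericPoint X) trivial :=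
    rfl
  have h2 := Scheme.ΓSpecIso_inv_naturality (CommRingCat.ofHom (CurvePts.kToK q))
  refine h2.symm.trans ?_
  have h3 : q.appLE ⊤ ⊤ le_top = q.appTop := Scheme.Hom.appLE_eq_app q
  have h4 : (Spec (X.presheaf.stalk (genericPoint X))).presheaf.map
      (homOfLE (le_top : (⊤ : (Spec (X.presheaf.stalk (genericPoint X))).Opens) ≤ ⊤)).op = 𝟙 _ :=
    (Spec (X.presheaf.stalk (genericPoint X))).presheaf.map_id _
  rw [h1, RegLocus.coeffHom, h3, Category.assoc, Category.assoc]
  refine congrArg (fun t => (Scheme.ΓSpecIso (CommRingCat.of k)).inv ≫ q.appTop ≫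
    X.presheaf.germ ⊤ (genericPoint X) trivial ≫ t) ?_
  exact ((congrArg (fun t => (Scheme.ΓSpecIso (X.presheaf.stalk (genericPoint X))).inv ≫ t) h4).trans
    (Category.comp_id _)).symm

/-- A transcendental element. -/
theorem exists_transcendental {k : Type u} [Field k] {X : Scheme.{u}} [IsIntegral X]
    (q : X ⟶ Spec (CommRingCat.of k)) (hdim : topologicalKrullDim X = 1) {L : Type u} [Field L] [Algebra k L]
    (γ : Spec (CommRingCat.of L) ⟶ X) (hγ : IsGen γ)
    (hγk : γ ≫ q = Spec.map (CommRingCat.ofHom (algebraMap k L))) : ∃ y : L, Transcendental k y := by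
  obtain ⟨z, hz⟩ := CurvePts.exists_transcendental q hdim
  obtain ⟨θ, hθ, rfl⟩ := hγ
  have h1 : θ.hom.comp (CurvePts.kToK q) = algebraMap k L := by
    have h2 : CommRingCat.ofHom (CurvePts.kToK q) ≫ θ = CommRingCat.ofHom (algebraMap k L) := by
      apply Spec.map_injective
      rw [← hγk, Category.assoc, ← spec_kToK, Spec.map_comp]
    exact congrArg CommRingCat.Hom.hom h2
  refine ⟨θ.hom z, ?_⟩
  rw [transcendental_iff_injective]
  have h3 : ((Polynomial.aeval (θ.hom z) : Polynomial k →ₐ[k] L) : Polynomial k →+* L) =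
      θ.hom.comp (Polynomial.eval₂RingHom (CurvePts.kToK q) z) := by
    apply Polynomial.ringHom_ext
    · intro a
      rw [RingHom.comp_apply, Polynomial.coe_eval₂RingHom, Polynomial.eval₂_C]
      simp [← h1]
    · rw [RingHom.comp_apply, Polynomial.coe_eval₂RingHom, Polynomial.eval₂_X]
      simp
  have h4 : Function.Injective (θ.hom.comp (Polynomial.eval₂RingHom (CurvePts.kToK q) z)) :=
    ((ConcreteCategory.isIso_iff_bijective θ).1 hθ).1.comp hz
  rw [← h3] at h4
  exact h4

theorem ker_eq {k : Type u} [Field k] {R : Type u} [CommRing R] [IsLocalRing R] [Algebra k R] (ρ : R →ₐ[k] k) :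
    RingHom.ker ρ.toRingHom = maximalIdeal R := by
  have hs : Function.Surjective ρ.toRingHom := fun c => ⟨algebraMap k R c, ρ.commutes c⟩
  exact IsLocalRing.eq_maximalIdeal (RingHom.ker_isMaximal_of_surjective _ hs)

theorem isPushout_quot {k : Type u} [Field k] {R : Type u} [CommRing R] [IsLocalRing R] [Algebra k R]
    (ρ : R →ₐ[k] k) (A : Type u) [CommRing A] [Algebra R A] [Algebra k A] [IsScalarTower k R A] :
    IsPushout (CommRingCat.ofHom ρ.toRingHom) (CommRingCat.ofHom (algebraMap R A))
      (CommRingCat.ofHom (algebraMap k (A ⧸ (maximalIdeal R).map (algebraMap R A))))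
      (CommRingCat.ofHom (Ideal.Quotient.mk ((maximalIdeal R).map (algebraMap R A)))) := by
  have hw : ∀ r : R, algebraMap k (A ⧸ (maximalIdeal R).map (algebraMap R A)) (ρ r) =
      Ideal.Quotient.mk ((maximalIdeal R).map (algebraMap R A)) (algebraMap R A r) := by
    intro r
    have h1 : algebraMap k R (ρ r) - r ∈ maximalIdeal R := by
      rw [← ker_eq ρ, RingHom.mem_ker]
      change ρ (algebraMap k R (ρ r) - r) = 0
      rw [map_sub, ρ.commutes]
      exact sub_self _
    have h2 : algebraMap R A (algebraMap k R (ρ r)) - algebraMap R A r ∈ (maximalIdeal R).map (algebraMap R A) := by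
      rw [← map_sub]
      exact Ideal.mem_map_of_mem _ h1
    have h3 := (Ideal.Quotient.mk_eq_mk_iff_sub_mem _ _).2 h2
    rw [← h3, ← IsScalarTower.algebraMap_apply k R A]
    rfl
  refine ⟨⟨?_⟩, ⟨PushoutCocone.IsColimit.mk _ (fun s => ?_) (fun s => ?_) (fun s => ?_) (fun s m h1 h2 => ?_)⟩⟩
  · ext r
    exact hw r
  · refine CommRingCat.ofHom (Ideal.Quotient.lift _ s.inr.hom fun a ha => ?_)
    rw [← RingHom.mem_ker]
    refine (Ideal.map_le_iff_le_comap.2 fun r hr => ?_ : (maximalIdeal R).map (algebraMap R A) ≤ RingHom.ker s.inr.hom) ha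
    have h1 := congr($(s.condition).hom r)
    have h2 : ρ.toRingHom r = 0 := by
      rw [← RingHom.mem_ker, ker_eq]
      exact hr
    change s.inr.hom (algebraMap R A r) = 0
    have h3 : s.inl.hom (ρ.toRingHom r) = s.inr.hom (algebraMap R A r) := h1
    rw [← h3, h2, map_zero]
  · ext c
    have h1 := congr($(s.condition).hom (algebraMap k R c))
    have h3 : s.inl.hom (ρ (algebraMap k R c)) = s.inr.hom (algebraMap R A (algebraMap k R c)) := h1
    rw [ρ.commutes, ← IsScalarTower.algebraMap_apply k R A] at h3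
    exact h3.symm
  · ext a
    rfl
  · apply CommRingCat.hom_ext
    apply Ideal.Quotient.ringHom_ext
    exact congrArg CommRingCat.Hom.hom h2

/-- **The local ring at the generic point of the closed fibre.** -/
theorem exists_localRing {k : Type u} [Field k] {R : Type u} [CommRing R] [IsDomain R] [IsDiscreteValuationRing R]
    [Algebra k R] (ρ : R →ₐ[k] k) {Y Y₀ : Scheme.{u}} (p : Y ⟶ Spec (CommRingCat.of R)) [IsIntegral Y]
    [IsLocallyNoetherian Y] [IsIntegral Y₀] (i : Y₀ ⟶ Y) (q : Y₀ ⟶ Spec (CommRingCat.of k))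
    (hP : IsPullback i q p (Spec.map (CommRingCat.ofHom ρ.toRingHom))) {E : Type u} [Field E]
    (γ : Spec (CommRingCat.of E) ⟶ Y) (hγ : IsGen γ) (ι : R →+* E)
    (hι : γ ≫ p = Spec.map (CommRingCat.ofHom ι)) (hι' : Function.Injective ι) :
    ∃ (O : Type u) (_ : CommRing O) (_ : IsDomain O) (_ : IsDiscreteValuationRing O) (_ : Algebra k O)
      (_ : Algebra R O) (_ : IsScalarTower k R O) (_ : Algebra O E) (_ : IsFractionRing O E),
      (maximalIdeal R).map (algebraMap R O) = maximalIdeal O ∧
      (∀ a : R, algebraMap O E (algebraMap R O a) = ι a) ∧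
      ∃ γ₀ : Spec (CommRingCat.of (ResidueField O)) ⟶ Y₀, IsGen γ₀ ∧
        γ₀ ≫ q = Spec.map (CommRingCat.ofHom (algebraMap k (ResidueField O))) := by
  -- the affine chart
  obtain ⟨V, hV, hξ, -⟩ := exists_isAffineOpen_mem_and_subset (X := Y) (x := i (genericPoint Y₀)) (U := ⊤) trivial
  let A : Type u := Γ(Y, V)
  let _ : CommRing A := inferInstanceAs (CommRing Γ(Y, V))
  let j : Spec (CommRingCat.of A) ⟶ Y := hV.fromSpec
  have hjo : IsOpenImmersion j := inferInstanceAs (IsOpenImmersion hV.fromSpec)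
  have hVne : Nonempty V := ⟨⟨_, hξ⟩⟩
  have hAn : Nontrivial A := inferInstanceAs (Nontrivial Γ(Y, V))
  have hAN : IsNoetherianRing A := IsLocallyNoetherian.component_noetherian ⟨V, hV⟩
  let φ : CommRingCat.of R ⟶ CommRingCat.of A := Spec.preimage (j ≫ p)
  let _ : Algebra R A := φ.hom.toAlgebra
  let _ : Algebra k A := (φ.hom.comp (algebraMap k R)).toAlgebra
  have tA : IsScalarTower k R A := IsScalarTower.of_algebraMap_eq' rfl
  have hjp : Spec.map (CommRingCat.ofHom (algebraMap R A)) = j ≫ p := Spec.map_preimage (j ≫ p)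
  obtain ⟨μ, hμ, hμi, hμd⟩ := hγ.exists_map j
  let _ : Algebra A E := μ.toAlgebra
  have hAE : IsFractionRing A E := isFractionRing_of_div hμi hμd
  have hAd : IsDomain A := hμi.isDomain
  have hμι : μ.comp (algebraMap R A) = ι := by
    have h1 : CommRingCat.ofHom (μ.comp (algebraMap R A)) = CommRingCat.ofHom ι := by
      apply Spec.map_injective
      rw [← hι, CommRingCat.ofHom_comp, Spec.map_comp, hjp, ← hμ, Category.assoc]
    exact congrArg CommRingCat.Hom.hom h1
  have hRA : Function.Injective (algebraMap R A) := by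
    intro a b hab
    apply hι'
    rw [← hμι, RingHom.comp_apply, RingHom.comp_apply, hab]
  -- the closed fibre of the chart
  set P : Ideal A := (maximalIdeal R).map (algebraMap R A) with hPdef
  have hpb := isPullback_SpecMap_of_isPushout _ _ _ _ (isPushout_quot ρ A)
  let j₀ : Spec (CommRingCat.of (A ⧸ P)) ⟶ Y₀ := hP.lift (Spec.map (CommRingCat.ofHom (Ideal.Quotient.mk P)) ≫ j)
    (Spec.map (CommRingCat.ofHom (algebraMap k (A ⧸ P)))) (by
      rw [Category.assoc, ← hjp]
      exact hpb.w.symm)
  have hj₀1 : j₀ ≫ i = Spec.map (CommRingCat.ofHom (Ideal.Quotient.mk P)) ≫ j := hP.lift_fst _ _ _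
  have hj₀2 : j₀ ≫ q = Spec.map (CommRingCat.ofHom (algebraMap k (A ⧸ P))) := hP.lift_snd _ _ _
  have hj₀P : IsPullback j₀ (Spec.map (CommRingCat.ofHom (Ideal.Quotient.mk P))) i j := by
    refine IsPullback.of_right (h₁₂ := q) (h₂₂ := p) (v₁₃ := Spec.map (CommRingCat.ofHom ρ.toRingHom)) ?_ hj₀1 hP.flip
    rw [hj₀2, ← hjp]
    exact hpb
  have hj₀o : IsOpenImmersion j₀ := MorphismProperty.of_isPullback (P := @IsOpenImmersion) hj₀P.flip inferInstance
  have hA₀n : Nontrivial (A ⧸ P) := by
    obtain ⟨x, hx⟩ : ∃ x, j x = i (genericPoint Y₀) := by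
      have h1 : i (genericPoint Y₀) ∈ Set.range hV.fromSpec := by
        rw [hV.range_fromSpec]
        exact hξ
      exact h1
    obtain ⟨z, -, -⟩ := Scheme.Pullback.exists_preimage_pullback (f := i) (g := j) (genericPoint Y₀) x hx.symm
    let z' : PrimeSpectrum (A ⧸ P) := hj₀P.isoPullback.inv z
    exact PrimeSpectrum.nonempty_iff_nontrivial.1 ⟨z'⟩
  obtain ⟨μ₀, -, hμ₀i, -⟩ := (isGen_fromSpecStalk (X := Y₀)).exists_map j₀
  have hA₀d : IsDomain (A ⧸ P) := hμ₀i.isDomain
  have hPp : P.IsPrime := (Ideal.Quotient.isDomain_iff_prime P).1 hA₀d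
  -- the local ring
  let O : Type u := Localization.AtPrime P
  have hle : P.primeCompl ≤ nonZeroDivisors A := Ideal.primeCompl_le_nonZeroDivisors P
  have hOd : IsDomain O := IsLocalization.isDomain_localization hle
  have hON : IsNoetherianRing O := IsLocalization.isNoetherianRing P.primeCompl O inferInstance
  have tO : IsScalarTower R A O := inferInstance
  have tkO : IsScalarTower k R O := inferInstance
  have hmO : (maximalIdeal R).map (algebraMap R O) = maximalIdeal O := by
    have h1 : P.map (algebraMap A O) = maximalIdeal O := Localization.AtPrime.map_eq_maximalIdeal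
    have h2 : (maximalIdeal R).map (algebraMap R O) = ((maximalIdeal R).map (algebraMap R A)).map (algebraMap A O) :=
      (congrArg (fun f => (maximalIdeal R).map f) (IsScalarTower.algebraMap_eq R A O)).trans
        (Ideal.map_map (algebraMap R A) (algebraMap A O)).symm
    exact h2.trans h1
  have hROi : Function.Injective (algebraMap R O) := by
    rw [IsScalarTower.algebraMap_eq R A O]
    exact (IsLocalization.injective O hle).comp hRA
  have hODVR : IsDiscreteValuationRing O := by
    obtain ⟨ϖ, hϖ⟩ := IsDiscreteValuationRing.exists_irreducible R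
    have h1 : maximalIdeal O = Ideal.span {algebraMap R O ϖ} := by
      rw [← hmO, hϖ.maximalIdeal_eq, Ideal.map_span, Set.image_singleton]
    have h2 : algebraMap R O ϖ ≠ 0 := fun h => hϖ.ne_zero (hROi (h.trans (map_zero _).symm))
    have h3 : ¬ IsField O := by
      rw [IsLocalRing.isField_iff_maximalIdeal_eq, h1, Ideal.span_singleton_eq_bot]
      exact h2
    refine ((IsDiscreteValuationRing.TFAE O h3).out 0 4).2 ?_
    rw [h1]
    exact ⟨⟨_, rfl⟩⟩
  have hunit : ∀ y : P.primeCompl, IsUnit (μ (y : A)) := fun y => by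
    rw [isUnit_iff_ne_zero]
    intro h
    have h1 : (y : A) = 0 := hμi (h.trans (map_zero _).symm)
    exact y.2 (h1 ▸ P.zero_mem)
  let _ : Algebra O E := (IsLocalization.lift (M := P.primeCompl) (S := O) hunit).toAlgebra
  have tOE : IsScalarTower A O E := by
    refine IsScalarTower.of_algebraMap_eq fun a => ?_
    exact (IsLocalization.lift_eq hunit a).symm
  have hOE : IsFractionRing O E :=
    IsFractionRing.isFractionRing_of_isDomain_of_isLocalization P.primeCompl O E
  refine ⟨O, inferInstance, hOd, hODVR, inferInstance, inferInstance, tkO, inferInstance, hOE, hmO, ?_, ?_⟩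
  · intro a
    rw [IsScalarTower.algebraMap_apply R A O, ← IsScalarTower.algebraMap_apply A O E, ← hμι]
    rfl
  · have hfr : IsFractionRing (A ⧸ P) P.ResidueField := inferInstance
    have h1 : IsGen (L := P.ResidueField)
      (Spec.map (CommRingCat.ofHom (algebraMap (A ⧸ P) P.ResidueField)) ≫ j₀) := isGen_of_isFractionRing j₀
    refine ⟨_, h1, ?_⟩
    rw [Category.assoc, hj₀2, ← Spec.map_comp, ← CommRingCat.ofHom_comp]
    congr 2

end K361.BadGeom
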