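import Groth.Agent.Curves.K329.CurveExt
import Mathlib.AlgebraicGeometry.FunctionField

/-!
# Generic points of integral schemes with values in a field

`IsGen γ` for `γ : Spec L ⟶ X`: `γ` identifies `L` with the function field of `X`.
-/

set_option autoImplicit false
universe u

open CategoryTheory CategoryTheory.Limits AlgebraicGeometry TopologicalSpace

namespace K361.Gen

variable {X : Scheme.{u}} [IsIntegral X] {L : Type u} [Field L]

/-- `γ` identifies `L` with the function field of `X`. -/
def IsGen (γ : Spec (CommRingCat.of L) ⟶ X) : Prop :=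
  ∃ θ : X.functionField ⟶ CommRingCat.of L, IsIso θ ∧ γ = Spec.map θ ≫ X.fromSpecStalk (genericPoint X)

theorem isGen_fromSpecStalk : IsGen (L := X.functionField) (X.fromSpecStalk (genericPoint X)) :=
  ⟨𝟙 _, inferInstance, by rw [Spec.map_id]; exact (Category.id_comp _).symm⟩

theorem IsGen.isPreimmersion {γ : Spec (CommRingCat.of L) ⟶ X} (h : IsGen γ) : IsPreimmersion γ := by
  obtain ⟨θ, hθ, rfl⟩ := h
  infer_instance

theorem IsGen.apply {γ : Spec (CommRingCat.of L) ⟶ X} (h : IsGen γ) (x : Spec (CommRingCat.of L)) :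
    γ x = genericPoint X := by
  obtain ⟨θ, hθ, rfl⟩ := h
  have h1 : Spec.map θ x = IsLocalRing.closedPoint (X.presheaf.stalk (genericPoint X)) := by
    have : Subsingleton (PrimeSpectrum X.functionField) := inferInstance
    exact Subsingleton.elim (α := PrimeSpectrum X.functionField) _ _
  rw [Scheme.Hom.comp_apply, h1]
  exact Scheme.fromSpecStalk_closedPoint

/-- Sections of an affine open subscheme as rational functions. -/
theorem IsGen.exists_map {γ : Spec (CommRingCat.of L) ⟶ X} (h : IsGen γ) {A : Type u} [CommRing A] [Nontrivial A]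
    (j : Spec (CommRingCat.of A) ⟶ X) [IsOpenImmersion j] :
    ∃ μ : A →+* L, Spec.map (CommRingCat.ofHom μ) ≫ j = γ ∧ Function.Injective μ ∧
      ∀ z : L, ∃ a b : A, z = μ a / μ b := by
  obtain ⟨θ, hθ, rfl⟩ := h
  let V := j.opensRange
  have hV : IsAffineOpen V := isAffineOpen_opensRange j
  have hne : Nonempty V := by
    obtain ⟨x⟩ : Nonempty (PrimeSpectrum A) := inferInstance
    exact ⟨⟨j x, ⟨x, rfl⟩⟩⟩
  have hr : Set.range j = Set.range hV.fromSpec := by
    rw [hV.range_fromSpec]
    rfl
  let e := IsOpenImmersion.isoOfRangeEq j hV.fromSpec hr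
  have he : e.hom ≫ hV.fromSpec = j := IsOpenImmersion.isoOfRangeEq_hom_fac _ _ _
  let φ : Γ(X, V) ⟶ CommRingCat.of A := Spec.preimage e.hom
  have hφ : Spec.map φ = e.hom := Spec.map_preimage _
  let ψ : CommRingCat.of A ⟶ Γ(X, V) := Spec.preimage e.inv
  have hψ : Spec.map ψ = e.inv := Spec.map_preimage _
  have h1 : φ ≫ ψ = 𝟙 _ := Spec.map_injective (by rw [Spec.map_comp, hφ, hψ, e.inv_hom_id, Spec.map_id])
  have h2 : ψ ≫ φ = 𝟙 _ := Spec.map_injective (by rw [Spec.map_comp, hφ, hψ, e.hom_inv_id, Spec.map_id])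
  have hg : genericPoint X ∈ V := ((genericPoint_spec X).mem_open_set_iff V.isOpen).2 (by
    obtain ⟨x⟩ := hne
    exact ⟨x.1, trivial, x.2⟩)
  let g : Γ(X, V) ⟶ X.functionField := X.presheaf.germ V (genericPoint X) hg
  have hfr : IsFractionRing Γ(X, V) X.functionField := functionField_isFractionRing_of_isAffineOpen X V hV
  have hgs : algebraMap Γ(X, V) X.functionField = g.hom := rfl
  refine ⟨(ψ ≫ g ≫ θ).hom, ?_, ?_, ?_⟩
  · have h3 : CommRingCat.ofHom (ψ ≫ g ≫ θ).hom = ψ ≫ g ≫ θ := rfl
    rw [h3, Spec.map_comp, Spec.map_comp, Category.assoc, Category.assoc, hψ, ← he, Iso.inv_hom_id_assoc,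
      ← hV.fromSpecStalk_eq_fromSpecStalk hg]
    rfl
  · have h4 : Function.Injective ψ := by
      intro a b hab
      have := congrArg φ.hom hab
      have h5 := congr($(h2).hom a)
      have h6 := congr($(h2).hom b)
      exact h5.symm.trans (this.trans h6)
    have h5 : Function.Injective g.hom := by
      rw [← hgs]
      exact IsFractionRing.injective _ _
    have h6 : Function.Injective θ.hom := ((ConcreteCategory.isIso_iff_bijective θ).1 hθ).1
    exact h6.comp (h5.comp h4)
  · intro z
    obtain ⟨z', rfl⟩ := ((ConcreteCategory.isIso_iff_bijective θ).1 hθ).2 z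
    obtain ⟨a, b, hb, hab⟩ := IsFractionRing.div_surjective (A := Γ(X, V)) z'
    have h7 : ∀ c, ψ (φ c) = c := fun c => congr($(h1).hom c)
    refine ⟨φ a, φ b, ?_⟩
    change θ.hom z' = θ.hom (g.hom (ψ (φ a))) / θ.hom (g.hom (ψ (φ b)))
    rw [h7, h7, ← hab, ← hgs]
    exact map_div₀ θ.hom _ _

theorem isFractionRing_of_div {A : Type u} [CommRing A] [Algebra A L] (h1 : Function.Injective (algebraMap A L))
    (h2 : ∀ z : L, ∃ a b : A, z = algebraMap A L a / algebraMap A L b) : IsFractionRing A L := by
  have : FaithfulSMul A L := (faithfulSMul_iff_algebraMap_injective _ _).2 h1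
  exact IsFractionRing.of_field A L h2

/-- A homomorphism compatible with the generic point identifies `L` with the fraction field. -/
theorem IsGen.isFractionRing {γ : Spec (CommRingCat.of L) ⟶ X} (h : IsGen γ) {A : Type u} [CommRing A]
    [Algebra A L] (j : Spec (CommRingCat.of A) ⟶ X) [IsOpenImmersion j]
    (hj : Spec.map (CommRingCat.ofHom (algebraMap A L)) ≫ j = γ) : IsFractionRing A L := by
  have : Nontrivial A := (algebraMap A L).domain_nontrivial
  obtain ⟨μ, h1, h2, h3⟩ := h.exists_map j
  have h4 : CommRingCat.ofHom μ = CommRingCat.ofHom (algebraMap A L) := by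
    apply Spec.map_injective
    rw [← cancel_mono j, h1, hj]
  have h5 : μ = algebraMap A L := congrArg CommRingCat.Hom.hom h4
  subst h5
  exact isFractionRing_of_div h2 h3

/-- The fraction field of the ring of an affine open subscheme. -/
theorem isGen_of_isFractionRing {A : Type u} [CommRing A] [Algebra A L] [IsFractionRing A L]
    (j : Spec (CommRingCat.of A) ⟶ X) [IsOpenImmersion j] :
    IsGen (Spec.map (CommRingCat.ofHom (algebraMap A L)) ≫ j) := by
  have : Nontrivial A := (algebraMap A L).domain_nontrivial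
  have : IsDomain A := (IsFractionRing.injective A L).isDomain
  obtain ⟨μ, h1, h2, h3⟩ := (isGen_fromSpecStalk (X := X)).exists_map j
  let := μ.toAlgebra
  have h4 : IsFractionRing A X.functionField := isFractionRing_of_div h2 h3
  let e : X.functionField ≃ₐ[A] L := IsLocalization.algEquiv (nonZeroDivisors A) _ _
  have h5 : (e : X.functionField →+* L).comp μ = algebraMap A L := RingHom.ext fun a => e.commutes a
  refine ⟨CommRingCat.ofHom (e : X.functionField →+* L), ?_, ?_⟩
  · exact (ConcreteCategory.isIso_iff_bijective _).2 e.bijective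
  · rw [← h1, ← Category.assoc, ← Spec.map_comp, ← h5]
    rfl

/-- Extension of rational maps. -/
theorem IsGen.exists_extension {γ : Spec (CommRingCat.of L) ⟶ X} (h : IsGen γ) {S Y : Scheme.{u}} (pX : X ⟶ S)
    (hval : ∀ x : X, ValuationRing (X.presheaf.stalk x)) (pY : Y ⟶ S) [IsProper pY]
    (δ : Spec (CommRingCat.of L) ⟶ Y) (hδ : δ ≫ pY = γ ≫ pX) : ∃ r : X ⟶ Y, r ≫ pY = pX ∧ γ ≫ r = δ := by
  have := h.isPreimmersion
  exact K329.CurveExt.exists_extension pX hval pY γ (h.apply _) δ hδ

end K361.Gen
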